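import Groth.Agent.SerreSplitLib.Basic

/-!
Local free summands and Bass cancellation.
-/

set_option autoImplicit false

universe u

namespace Groth.Agent.SerreSplitLib

variable {R : Type u} [CommRing R] {M : Type u} [AddCommGroup M] [Module R M]

theorem ge_of_retraction [Module.FinitePresentation R M] (x : MaximalSpectrum R) (j : ℕ)
    (f : (Fin j → Localization.AtPrime x.asIdeal) →ₗ[Localization.AtPrime x.asIdeal]
      LocalizedModule x.asIdeal.primeCompl M)
    (g : LocalizedModule x.asIdeal.primeCompl M →ₗ[Localization.AtPrime x.asIdeal]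
      (Fin j → Localization.AtPrime x.asIdeal))
    (hgf : g ∘ₗ f = LinearMap.id) : Ge (⊤ : Submodule R M) j x := by
  classical
  let B := Localization.AtPrime x.asIdeal
  let N := LocalizedModule x.asIdeal.primeCompl M
  let ι := LocalizedModule.mkLinearMap x.asIdeal.primeCompl M
  let T : Module.Dual R M →ₗ[R] Module.Dual B N :=
    IsLocalizedModule.mapExtendScalars x.asIdeal.primeCompl ι (Algebra.linearMap R B) B
  haveI : IsLocalizedModule x.asIdeal.primeCompl T :=
    Module.FinitePresentation.isLocalizedModule_mapExtendScalars x.asIdeal.primeCompl _ _ B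
  choose φs hφ using fun p : Fin j => IsLocalizedModule.surj x.asIdeal.primeCompl T ((LinearMap.proj p).comp g)
  choose us hu using fun q : Fin j => IsLocalizedModule.surj x.asIdeal.primeCompl ι (f (Pi.single q 1))
  refine ⟨fun p => (φs p).1, fun q => (us q).1, fun _ => Submodule.mem_top, fun hd => ?_⟩
  have hent : ∀ p q, algebraMap R B ((φs p).1 (us q).1) =
      algebraMap R B (φs p).2 * (algebraMap R B (us q).2 * (if p = q then 1 else 0)) := by
    intro p q
    rw [show algebraMap R B ((φs p).1 (us q).1) = T (φs p).1 (ι (us q).1) from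
      (IsLocalizedModule.map_apply x.asIdeal.primeCompl ι (Algebra.linearMap R B) (φs p).1 (us q).1).symm,
      ← hφ p, ← hu q, Submonoid.smul_def, Submonoid.smul_def, LinearMap.smul_apply, LinearMap.map_smul_of_tower,
      LinearMap.comp_apply, ← LinearMap.comp_apply g f, hgf, LinearMap.id_apply, LinearMap.proj_apply,
      Pi.single_apply, Algebra.smul_def, Algebra.smul_def]
  have hdet : algebraMap R B (Matrix.of fun p q => (φs p).1 (us q).1).det =
      (∏ p, algebraMap R B (φs p).2) * ∏ q, algebraMap R B (us q).2 := by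
    rw [RingHom.map_det, ← Finset.prod_mul_distrib,
      ← Matrix.det_diagonal (d := fun p => algebraMap R B (φs p).2 * algebraMap R B (us p).2)]
    congr 1
    ext p q
    rw [RingHom.mapMatrix_apply, Matrix.map_apply, Matrix.of_apply, hent]
    by_cases h : p = q
    · subst h; simp
    · simp [h]
  have hu' : IsUnit (algebraMap R B (Matrix.of fun p q => (φs p).1 (us q).1).det) := by
    rw [hdet]
    exact (IsUnit.prod_iff.2 fun p _ => IsLocalization.map_units B (φs p).2).mul
      (IsUnit.prod_iff.2 fun q _ => IsLocalization.map_units B (us q).2)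
  exact (IsLocalization.AtPrime.isUnit_to_map_iff B x.asIdeal _).1 hu' hd

theorem ge_of_rankAtStalk [Module.Finite R M] [Module.Projective R M] (x : MaximalSpectrum R) (n j : ℕ)
    (hjn : j ≤ n) (hn : Module.rankAtStalk (R := R) M ⟨x.asIdeal, x.isMaximal.isPrime⟩ = n) :
    Ge (⊤ : Submodule R M) j x := by
  let B := Localization.AtPrime x.asIdeal
  let N := LocalizedModule x.asIdeal.primeCompl M
  haveI : Module.FinitePresentation R M := Module.finitePresentation_of_projective R M
  haveI : Module.Projective B N :=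
    Module.projective_of_isLocalizedModule x.asIdeal.primeCompl (LocalizedModule.mkLinearMap _ M)
  haveI : Module.Free B N := Module.free_of_flat_of_isLocalRing
  haveI : Module.Finite B N := Module.Finite.of_isLocalizedModule x.asIdeal.primeCompl (LocalizedModule.mkLinearMap _ M)
  refine ge_mono hjn ?_
  let e : N ≃ₗ[B] (Fin n → B) := ((Module.finBasisOfFinrankEq B N hn).equivFun)
  exact ge_of_retraction x n e.symm.toLinearMap e.toLinearMap (LinearMap.ext e.apply_symm_apply)

theorem ge_prod {N : Type u} [AddCommGroup N] [Module R N] {x : MaximalSpectrum R} {j : ℕ}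
    (h : Ge (⊤ : Submodule R M) j x) : Ge (⊤ : Submodule R (M × N)) j x := by
  obtain ⟨φ, u, -, hd⟩ := h
  exact ⟨fun p => (φ p).comp (LinearMap.fst R M N), fun q => (u q, 0), fun _ => Submodule.mem_top, hd⟩

theorem ge_pi {x : MaximalSpectrum R} {N : ℕ} (h : Ge (⊤ : Submodule R M) 1 x) :
    Ge (⊤ : Submodule R (Fin N → M)) N x := by
  obtain ⟨φ, u, -, hd⟩ := h
  rw [Matrix.det_fin_one, Matrix.of_apply] at hd
  refine ⟨fun p => (φ 0).comp (LinearMap.proj p), fun q => Pi.single q (u 0), fun _ => Submodule.mem_top, ?_⟩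
  have hM : (Matrix.of fun p q : Fin N => (φ 0).comp (LinearMap.proj p) (Pi.single q (u 0) : Fin N → M)) =
      Matrix.diagonal fun _ => φ 0 (u 0) := by
    ext p q
    by_cases h : p = q
    · subst h; simp
    · simp [h]
  rw [hM, Matrix.det_diagonal, Finset.prod_const]
  exact fun h => hd (x.isMaximal.isPrime.mem_of_pow_mem _ h)

variable [TopologicalSpace.NoetherianSpace (MaximalSpectrum R)]

theorem cancel_one [Module.Finite R M] (d : ℕ) (hdim : topologicalKrullDim (MaximalSpectrum R) ≤ d)
    (hrk : ∀ x, Ge (⊤ : Submodule R M) (d + 1) x) {Q : Type u} [AddCommGroup Q] [Module R Q]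
    (e : (Q × R) ≃ₗ[R] (M × R)) : Nonempty (Q ≃ₗ[R] M) := by
  obtain ⟨⟨p, a⟩, hpa⟩ : ∃ z, e (0, 1) = z := ⟨_, rfl⟩
  have hsa : ∀ x : MaximalSpectrum R, a ∈ x.asIdeal → ∃ φ : Module.Dual R M, φ p ∉ x.asIdeal := by
    intro x hax
    let θ : (M × R) →ₗ[R] R := (LinearMap.snd R Q R).comp e.symm.toLinearMap
    refine ⟨θ.comp (LinearMap.inl R M R), fun h => x.isMaximal.ne_top ((Ideal.eq_top_iff_one _).2 ?_)⟩
    have h1 : θ (p, a) = 1 := by
      show (e.symm (p, a)).2 = 1
      rw [← hpa, e.symm_apply_apply]
    rw [show ((p, a) : M × R) = (p, 0) + a • ((0 : M), (1 : R)) by simp, map_add, map_smul, smul_eq_mul] at h1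
    rw [← h1]
    exact add_mem h (Ideal.mul_mem_right _ _ hax)
  obtain ⟨t, ψ, hψ⟩ := exists_unimodular_add d hdim hrk p a hsa
  let p' := p + a • t
  let T1 : (M × R) ≃ₗ[R] (M × R) :=
    { toFun := fun z => (z.1 + z.2 • t, z.2)
      invFun := fun z => (z.1 - z.2 • t, z.2)
      left_inv := fun z => by simp
      right_inv := fun z => by simp
      map_add' := fun z w => by
        ext
        · simp only [Prod.fst_add, Prod.snd_add, add_smul]; abel
        · rfl
      map_smul' := fun r z => by simp [smul_add, mul_smul] }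
  let T2 : (M × R) ≃ₗ[R] (M × R) :=
    { toFun := fun z => (z.1, z.2 + (1 - a) * ψ z.1)
      invFun := fun z => (z.1, z.2 - (1 - a) * ψ z.1)
      left_inv := fun z => by simp
      right_inv := fun z => by simp
      map_add' := fun z w => by
        ext
        · rfl
        · simp only [Prod.fst_add, Prod.snd_add, map_add]; ring
      map_smul' := fun r z => by
        ext
        · rfl
        · simp only [Prod.smul_fst, Prod.smul_snd, map_smul, smul_eq_mul, RingHom.id_apply]; ring }
  let T3 : (M × R) ≃ₗ[R] (M × R) :=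
    { toFun := fun z => (z.1 - z.2 • p', z.2)
      invFun := fun z => (z.1 + z.2 • p', z.2)
      left_inv := fun z => by simp
      right_inv := fun z => by simp
      map_add' := fun z w => by
        ext
        · simp only [Prod.fst_add, Prod.snd_add, add_smul]; abel
        · rfl
      map_smul' := fun r z => by simp [smul_sub, mul_smul] }
  let E := ((e.trans T1).trans T2).trans T3
  have hE : E (0, 1) = (0, 1) := by
    show T3 (T2 (T1 (e (0, 1)))) = _
    rw [hpa]
    show ((p + a • t) - (a + (1 - a) * ψ (p + a • t)) • p', a + (1 - a) * ψ (p + a • t)) = _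
    rw [hψ]
    simp [p']
  have hE' : ∀ c : R, E (0, c) = (0, c) := fun c => by
    rw [show ((0 : Q), c) = c • ((0 : Q), (1 : R)) by simp, map_smul, hE]
    simp
  have hEs : ∀ c : R, E.symm (0, c) = (0, c) := fun c => by rw [E.symm_apply_eq, hE']
  refine ⟨LinearEquiv.ofLinear
    (((LinearMap.fst R M R).comp E.toLinearMap).comp (LinearMap.inl R Q R))
    (((LinearMap.fst R Q R).comp E.symm.toLinearMap).comp (LinearMap.inl R M R))
    (LinearMap.ext fun y => ?_) (LinearMap.ext fun q => ?_)⟩
  · show (E ((E.symm (y, 0)).1, 0)).1 = y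
    have h : ((E.symm (y, 0)).1, (0 : R)) = E.symm (y, 0) - (0, (E.symm (y, 0)).2) := by ext <;> simp
    rw [h, map_sub, E.apply_symm_apply, hE']
    simp
  · show (E.symm ((E (q, 0)).1, 0)).1 = q
    have h : ((E (q, 0)).1, (0 : R)) = E (q, 0) - (0, (E (q, 0)).2) := by ext <;> simp
    rw [h, map_sub, E.symm_apply_apply, hEs]
    simp

theorem cancel (d : ℕ) (hdim : topologicalKrullDim (MaximalSpectrum R) ≤ d) :
    ∀ (m : ℕ) {M Q : Type u} [AddCommGroup M] [Module R M] [Module.Finite R M] [AddCommGroup Q] [Module R Q],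
      (∀ x, Ge (⊤ : Submodule R M) (d + 1) x) → ((Q × (Fin m → R)) ≃ₗ[R] (M × (Fin m → R))) →
      Nonempty (Q ≃ₗ[R] M) := by
  intro m
  induction m with
  | zero =>
    intro M Q _ _ _ _ _ _ e
    exact ⟨(LinearEquiv.prodUnique (R := R) (M := Q) (M₂ := Fin 0 → R)).symm.trans (e.trans LinearEquiv.prodUnique)⟩
  | succ m ih =>
    intro M Q _ _ _ _ _ hrk e
    let σ : ∀ (P : Type u) [AddCommGroup P] [Module R P], (P × (Fin (m + 1) → R)) ≃ₗ[R] ((P × (Fin m → R)) × R) :=
      fun P _ _ => ((LinearEquiv.refl R P).prodCongr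
        ((Fin.consLinearEquiv R fun _ : Fin (m + 1) => R).symm.trans (LinearEquiv.prodComm R _ _))).trans
        (LinearEquiv.prodAssoc R _ _ _).symm
    obtain ⟨e'⟩ := cancel_one d hdim (fun x => ge_prod (hrk x)) (((σ Q).symm.trans e).trans (σ M))
    exact ih hrk e'

end Groth.Agent.SerreSplitLib
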