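import Mathlib

/-!
Serre's splitting theorem (unimodular elements in modules of big free rank) and Bass cancellation.
-/

set_option autoImplicit false

universe u

namespace Groth.Agent.SerreSplitLib

open TopologicalSpace

variable {R : Type u} [CommRing R] {M : Type u} [AddCommGroup M] [Module R M]

/-- `W` has rank at least `j` at `x`, as seen by functionals on `M`. -/
def Ge (W : Submodule R M) (j : ℕ) (x : MaximalSpectrum R) : Prop :=
  ∃ (φ : Fin j → Module.Dual R M) (u : Fin j → M),
    (∀ i, u i ∈ W) ∧ (Matrix.of fun p q => φ p (u q)).det ∉ x.asIdeal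

theorem ge_zero (W : Submodule R M) (x : MaximalSpectrum R) : Ge W 0 x :=
  ⟨Fin.elim0, Fin.elim0, fun i => i.elim0, by
    rw [Matrix.det_isEmpty]
    exact fun h => x.isMaximal.ne_top ((Ideal.eq_top_iff_one _).2 h)⟩

theorem isOpen_ge (W : Submodule R M) (j : ℕ) : IsOpen {x : MaximalSpectrum R | Ge W j x} := by
  rw [isOpen_iff_forall_mem_open]
  rintro x ⟨φ, u, hu, hd⟩
  refine ⟨MaximalSpectrum.toPrimeSpectrum ⁻¹'
    (PrimeSpectrum.basicOpen (Matrix.of fun p q => φ p (u q)).det : Set (PrimeSpectrum R)),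
    fun y hy => ⟨φ, u, hu, hy⟩, (PrimeSpectrum.basicOpen _).isOpen.preimage ?_, hd⟩
  exact MaximalSpectrum.toPrimeSpectrum_continuous

variable (R M) in
/-- Values at `x` seen by the functionals. -/
noncomputable def val (x : MaximalSpectrum R) : M →ₗ[R] (Module.Dual R M → R ⧸ x.asIdeal) :=
  LinearMap.pi fun φ => (Submodule.mkQ x.asIdeal).comp φ

theorem val_apply (x : MaximalSpectrum R) (m : M) (φ : Module.Dual R M) :
    val R M x m φ = Ideal.Quotient.mk x.asIdeal (φ m) := rfl

theorem ge_of_val_le {W W' : Submodule R M} {j : ℕ} {x : MaximalSpectrum R} (h : Ge W j x)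
    (hle : ∀ w ∈ W, ∃ w' ∈ W', val R M x w' = val R M x w) : Ge W' j x := by
  obtain ⟨φ, u, hu, hd⟩ := h
  choose u' hu' hval using fun i => hle _ (hu i)
  refine ⟨φ, u', hu', fun hd' => hd ?_⟩
  rw [← Ideal.Quotient.eq_zero_iff_mem, RingHom.map_det] at hd' ⊢
  convert hd' using 2
  ext p q
  exact (congrFun (hval q) (φ p)).symm

/-- Independent functions have a nonvanishing generalized Vandermonde determinant. -/
theorem exists_points {κ : Type*} [Field κ] {T : Type*} {j : ℕ} (f : Fin j → T → κ)
    (hf : LinearIndependent κ f) : ∃ t : Fin j → T, (Matrix.of fun p q => f q (t p)).det ≠ 0 := by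
  classical
  let S : Set (Fin j → κ) := Set.range fun t => fun i => f i t
  have hspan : Submodule.span κ S = ⊤ := by
    by_contra hne
    obtain ⟨l, hl, hle⟩ := Submodule.exists_le_ker_of_lt_top _ (lt_top_iff_ne_top.2 hne)
    apply hl
    have hg := Fintype.linearIndependent_iff.1 hf (fun i => l (Pi.single i 1)) (funext fun t => by
      have h0 : l (fun i => f i t) = 0 := hle (Submodule.subset_span ⟨t, rfl⟩)
      rw [pi_eq_sum_univ (fun i => f i t), map_sum] at h0
      rw [Finset.sum_apply, Pi.zero_apply, ← h0]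
      refine Finset.sum_congr rfl fun i _ => ?_
      rw [Pi.smul_apply, map_smul, smul_eq_mul, smul_eq_mul, mul_comm]
      congr 2
      ext k
      simp [Pi.single_apply, eq_comm])
    refine LinearMap.pi_ext' fun i => LinearMap.ext_ring ?_
    simpa using hg i
  obtain ⟨b, hbS, hbspan, hbli⟩ := exists_linearIndependent κ S
  rw [hspan] at hbspan
  let B := Module.Basis.mk hbli (by rw [Subtype.range_coe, hbspan])
  haveI : Fintype b := FiniteDimensional.fintypeBasisIndex B
  have hcard : Fintype.card b = j := by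
    rw [← Module.finrank_eq_card_basis B, Module.finrank_fin_fun]
  let e := (Fintype.equivFinOfCardEq hcard).symm
  choose t ht using fun p : Fin j => hbS (e p).2
  refine ⟨t, ?_⟩
  have hli : LinearIndependent κ (Matrix.of fun p q => f q (t p)).row := by
    have h := hbli.comp e e.injective
    have hfun : (Matrix.of fun p q => f q (t p)).row = (fun i : b => (i : Fin j → κ)) ∘ e := funext ht
    rw [hfun]
    exact h
  exact ((Matrix.isUnit_iff_isUnit_det _).1 (Matrix.linearIndependent_rows_iff_isUnit.1 hli)).ne_zero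

theorem linearIndependent_of_det {κ : Type*} [Field κ] {T : Type*} {j : ℕ} (f : Fin j → T → κ) (t : Fin j → T)
    (h : (Matrix.of fun p q => f q (t p)).det ≠ 0) : LinearIndependent κ f := by
  rw [Fintype.linearIndependent_iff]
  intro g hg
  refine congrFun (Matrix.eq_zero_of_mulVec_eq_zero h (funext fun p => ?_))
  have := congrFun hg (t p)
  simpa [Matrix.mulVec, dotProduct, Finset.sum_apply, mul_comm] using this

theorem li_of_ge {W : Submodule R M} {j : ℕ} {x : MaximalSpectrum R}
    (h : Ge W j x) : letI := Ideal.Quotient.field x.asIdeal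
    ∃ u : Fin j → M, (∀ i, u i ∈ W) ∧ LinearIndependent (R ⧸ x.asIdeal) fun i => val R M x (u i) := by
  letI := Ideal.Quotient.field x.asIdeal
  obtain ⟨φ, u, hu, hd⟩ := h
  refine ⟨u, hu, linearIndependent_of_det _ φ fun h0 => hd ?_⟩
  rw [← Ideal.Quotient.eq_zero_iff_mem, RingHom.map_det]
  exact h0

theorem ge_of_li {W : Submodule R M} {j : ℕ} {x : MaximalSpectrum R} (u : Fin j → M) (hu : ∀ i, u i ∈ W)
    (h : letI := Ideal.Quotient.field x.asIdeal
      LinearIndependent (R ⧸ x.asIdeal) fun i => val R M x (u i)) : Ge W j x := by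
  letI := Ideal.Quotient.field x.asIdeal
  obtain ⟨t, ht⟩ := exists_points _ h
  refine ⟨t, u, hu, fun hd => ht ?_⟩
  rw [← Ideal.Quotient.eq_zero_iff_mem, RingHom.map_det] at hd
  exact hd

theorem ge_mono {W : Submodule R M} {i j : ℕ} (hij : i ≤ j) {x : MaximalSpectrum R} (h : Ge W j x) : Ge W i x := by
  letI := Ideal.Quotient.field x.asIdeal
  obtain ⟨u, hu, hli⟩ := li_of_ge h
  exact ge_of_li (u ∘ Fin.castLE hij) (fun _ => hu _) (hli.comp _ (Fin.castLE_injective hij))

/-- Dropping one generator lowers the rank by at most one. -/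
theorem ge_drop {n : ℕ} (w : Fin (n + 2) → M) (β : Fin (n + 1) → R) {j : ℕ} {x : MaximalSpectrum R}
    (h : Ge (Submodule.span R (Set.range w)) (j + 1) x) :
    Ge (Submodule.span R (Set.range fun i : Fin (n + 1) => w i.castSucc + β i • w (Fin.last _))) j x := by
  classical
  letI := Ideal.Quotient.field x.asIdeal
  let κ := R ⧸ x.asIdeal
  have hsm : ∀ (r : R) (f : Module.Dual R M → κ), r • f = Ideal.Quotient.mk x.asIdeal r • f := fun r f =>
    (algebraMap_smul κ r f).symm
  let w' : Fin (n + 1) → M := fun i => w i.castSucc + β i • w (Fin.last _)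
  let S : Set (Module.Dual R M → κ) := Set.range fun i => val R M x (w' i)
  let L := Submodule.span κ ({val R M x (w (Fin.last _))} : Set (Module.Dual R M → κ))
  obtain ⟨u, hu, hli⟩ := li_of_ge h
  have hmem : ∀ i, val R M x (u i) ∈ Submodule.span κ S ⊔ L := by
    intro i
    obtain ⟨g, hg⟩ := Submodule.mem_span_range_iff_exists_fun _ |>.1 (hu i)
    rw [← hg, map_sum]
    refine Submodule.sum_mem _ fun k _ => ?_
    rw [map_smul, hsm]
    refine Submodule.smul_mem _ _ ?_
    refine Fin.lastCases (Submodule.mem_sup_right (Submodule.mem_span_singleton_self _)) (fun k => ?_) k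
    rw [show w k.castSucc = w' k - β k • w (Fin.last _) by simp [w'], map_sub, map_smul, hsm]
    exact sub_mem (Submodule.mem_sup_left (Submodule.subset_span ⟨k, rfl⟩))
      (Submodule.mem_sup_right (Submodule.smul_mem _ _ (Submodule.mem_span_singleton_self _)))
  haveI : FiniteDimensional κ (Submodule.span κ S) := FiniteDimensional.span_of_finite κ (Set.finite_range _)
  haveI : FiniteDimensional κ L := FiniteDimensional.span_of_finite κ (Set.finite_singleton _)
  have hle := Submodule.finrank_mono (Submodule.span_le.2 (Set.range_subset_iff.2 hmem))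
  rw [finrank_span_eq_card hli, Fintype.card_fin] at hle
  have hL : Module.finrank κ L ≤ 1 := (finrank_span_le_card ({val R M x (w (Fin.last _))} : Set (Module.Dual R M → κ))).trans (by simp)
  have hsum := Submodule.finrank_add_le_finrank_add_finrank (Submodule.span κ S) L
  obtain ⟨b, hbS, hbspan, hbli⟩ := exists_linearIndependent κ S
  haveI : Fintype b := ((Set.finite_range _).subset hbS).fintype
  have hcard : j ≤ Fintype.card b := by
    rw [← finrank_span_eq_card hbli, Subtype.range_coe, hbspan]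
    omega
  obtain ⟨e⟩ : Nonempty (Fin j ↪ b) := Function.Embedding.nonempty_of_card_le (by simpa using hcard)
  choose k hk using fun i : Fin j => hbS (e i).2
  refine ge_of_li (fun i => w' (k i)) (fun i => Submodule.subset_span ⟨k i, rfl⟩) ?_
  have hfun : (fun i => val R M x (w' (k i))) = (fun i : b => (i : Module.Dual R M → κ)) ∘ e := funext hk
  rw [hfun]
  exact hbli.comp e e.injective

variable (R) in
/-- The condition of Eisenbud and Evans. -/
def Good (a : R) {n : ℕ} (w : Fin n → M) : Prop :=
  ∀ k < n, ∀ Y : IrreducibleCloseds (MaximalSpectrum R),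
    (Y : Set (MaximalSpectrum R)) ⊆ {x | a ∈ x.asIdeal ∨ ¬ Ge (Submodule.span R (Set.range w)) (k + 1) x} →
    ¬ (Y : Set (MaximalSpectrum R)) ⊆ {x | a ∈ x.asIdeal} →
    Order.height Y < k

theorem isClosed_mem (a : R) : IsClosed {x : MaximalSpectrum R | a ∈ x.asIdeal} := by
  have h : {x : MaximalSpectrum R | a ∈ x.asIdeal} =
      MaximalSpectrum.toPrimeSpectrum ⁻¹' PrimeSpectrum.zeroLocus {a} := by
    ext x
    simp [MaximalSpectrum.toPrimeSpectrum]
  rw [h]
  exact (PrimeSpectrum.isClosed_zeroLocus _).preimage MaximalSpectrum.toPrimeSpectrum_continuous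

theorem isClosed_locus (a : R) (W : Submodule R M) (j : ℕ) :
    IsClosed {x : MaximalSpectrum R | a ∈ x.asIdeal ∨ ¬ Ge W j x} :=
  (isClosed_mem a).union (isOpen_ge W j).isClosed_compl

/-- Eliminating the last vector at one point. -/
theorem exists_coeff {n : ℕ} (w : Fin (n + 2) → M) (a : R) (x : MaximalSpectrum R) (ha : a ∉ x.asIdeal)
    (hrk : ¬ Ge (Submodule.span R (Set.range w)) (n + 2) x) :
    ∃ c : Fin (n + 1) → R, ∀ z ∈ Submodule.span R (Set.range w),
      ∃ z' : Fin (n + 1) → R, val R M x (∑ i, z' i • (w i.castSucc + c i • w (Fin.last _))) = val R M x z := by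
  classical
  letI : Field (R ⧸ x.asIdeal) := Ideal.Quotient.field x.asIdeal
  let κ := R ⧸ x.asIdeal
  let v : Fin (n + 2) → (Module.Dual R M → κ) := fun i => val R M x (w i)
  have hsm : ∀ (r : R) (f : Module.Dual R M → κ), r • f = Ideal.Quotient.mk x.asIdeal r • f := fun r f =>
    (algebraMap_smul κ r f).symm
  have hv : ¬ LinearIndependent κ v := fun hli => by
    obtain ⟨t, ht⟩ := exists_points v hli
    refine hrk ⟨t, w, fun i => Submodule.subset_span ⟨i, rfl⟩, fun hd => ht ?_⟩
    rw [← Ideal.Quotient.eq_zero_iff_mem, RingHom.map_det] at hd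
    exact hd
  suffices h : ∃ c : Fin (n + 1) → R, ∃ l : Fin (n + 1) → R,
      v (Fin.last _) = val R M x (∑ i, l i • (w i.castSucc + c i • w (Fin.last _))) by
    obtain ⟨c, l, hl⟩ := h
    refine ⟨c, fun z hz => ?_⟩
    obtain ⟨g, rfl⟩ := Submodule.mem_span_range_iff_exists_fun _ |>.1 hz
    let r := g (Fin.last _) - ∑ i, g (Fin.castSucc i) * c i
    refine ⟨fun i => g i.castSucc + r * l i, ?_⟩
    simp only [add_smul, mul_smul, Finset.sum_add_distrib, ← Finset.smul_sum, map_add, map_smul]
    rw [← hl, ← map_smul, ← map_add, Fin.sum_univ_castSucc (fun i => g i • w i)]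
    congr 1
    simp only [smul_add, Finset.sum_add_distrib, r, sub_smul, Finset.sum_smul, mul_smul]
    abel
  by_cases hspan : v (Fin.last _) ∈ Submodule.span κ (Set.range fun i : Fin (n + 1) => v i.castSucc)
  · obtain ⟨l, hl⟩ := Submodule.mem_span_range_iff_exists_fun _ |>.1 hspan
    choose l' hl' using fun i => Ideal.Quotient.mk_surjective (l i)
    refine ⟨0, l', ?_⟩
    rw [← hl, map_sum]
    refine Finset.sum_congr rfl fun i _ => ?_
    rw [Pi.zero_apply, zero_smul, add_zero, map_smul, hsm, hl']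
  · have hdep : ¬ LinearIndependent κ (fun i : Fin (n + 1) => v i.castSucc) := fun hli => hv (by
      rw [← Fin.snoc_init_self v]
      exact linearIndependent_fin_snoc.2 ⟨hli, hspan⟩)
    obtain ⟨g, hg, i₀, hi₀⟩ := Fintype.not_linearIndependent_iff.1 hdep
    choose g' hg' using fun i => Ideal.Quotient.mk_surjective (g i)
    obtain ⟨e, he⟩ := Ideal.Quotient.mk_surjective (g i₀)⁻¹
    refine ⟨Pi.single i₀ 1, fun i => e * g' i, ?_⟩
    have h1 : ∑ i, (e * g' i) • (w i.castSucc + (Pi.single i₀ 1 : Fin (n + 1) → R) i • w (Fin.last _)) =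
        e • (∑ i, g' i • w i.castSucc) + (e * g' i₀) • w (Fin.last _) := by
      simp only [smul_add, Finset.sum_add_distrib, mul_smul, Finset.smul_sum]
      congr 1
      rw [Finset.sum_eq_single i₀ (fun i _ hi => by simp [hi]) (by simp)]
      simp
    have h2 : val R M x (∑ i, g' i • w i.castSucc) = 0 := by
      rw [← hg, map_sum]
      refine Finset.sum_congr rfl fun i _ => ?_
      rw [map_smul, hsm, hg']
    rw [h1, map_add, map_smul, h2, smul_zero, zero_add, map_smul, hsm, map_mul, he, hg',
      inv_mul_cancel₀ hi₀, one_smul]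

variable [NoetherianSpace (MaximalSpectrum R)]

theorem good_step (a : R) {n : ℕ} (w : Fin (n + 2) → M) (hw : Good R a w) :
    ∃ t : M, ∃ w' : Fin (n + 1) → M, Good R a w' ∧ w' 0 = w 0 + a • t := by
  classical
  let W := Submodule.span R (Set.range w)
  let A : ℕ → Set (MaximalSpectrum R) := fun j => {x | a ∈ x.asIdeal ∨ ¬ Ge W j x}
  have hcomp : ∀ j, ∃ S : Set (Set (MaximalSpectrum R)), S.Finite ∧ (∀ t ∈ S, IsClosed t) ∧
      (∀ t ∈ S, IsIrreducible t) ∧ A j = ⋃₀ S := fun j =>
    NoetherianSpace.exists_finite_set_isClosed_irreducible (isClosed_locus a W j)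
  choose S hSf hSc hSi hSA using hcomp
  -- one point off the smaller locus on each component
  let P : Set (MaximalSpectrum R) := ⋃ k ∈ Finset.range (n + 1),
    ⋃ t ∈ S (k + 2), if h : (t \ A (k + 1)).Nonempty then {h.choose} else ∅
  have hPf : P.Finite := (Finset.finite_toSet _).biUnion fun k _ => (hSf _).biUnion fun t _ => by
    split_ifs <;> simp
  have hPmem : ∀ x ∈ P, a ∉ x.asIdeal ∧ ¬ Ge W (n + 2) x := by
    intro x hx
    simp only [P, Set.mem_iUnion, Finset.mem_range] at hx
    obtain ⟨k, hk, t, ht, hxt⟩ := hx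
    split_ifs at hxt with h
    · obtain rfl := hxt
      obtain ⟨h1, h2⟩ := h.choose_spec
      have hA : h.choose ∈ A (k + 2) := hSA _ ▸ ⟨t, ht, h1⟩
      simp only [A, Set.mem_setOf_eq, not_or] at h2
      refine ⟨h2.1, ?_⟩
      -- rank at least `n + 2` gives rank at least `k + 2`
      exact fun hge => (hA.resolve_left h2.1) (ge_mono (by omega) hge)
    · exact hxt.elim
  choose c hc using fun x : P => exists_coeff w a x.1 (hPmem _ x.2).1 (hPmem _ x.2).2
  haveI := hPf.to_subtype
  haveI := Fintype.ofFinite P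
  obtain ⟨ai, hai⟩ : ∃ ai : P → R, ∀ x : P, a * ai x - 1 ∈ x.1.asIdeal := by
    refine ⟨fun x => (x.1.isMaximal.exists_inv (hPmem _ x.2).1).choose, fun x => ?_⟩
    obtain ⟨i, hi, h⟩ := (x.1.isMaximal.exists_inv (hPmem _ x.2).1).choose_spec
    rw [show a * (x.1.isMaximal.exists_inv (hPmem _ x.2).1).choose - 1 = -i by linear_combination h]
    exact neg_mem hi
  have hco : Pairwise (Function.onFun IsCoprime fun x : P => x.1.asIdeal) := fun x y h =>
    MaximalSpectrum.isCoprime_of_ne fun h' => h (Subtype.ext h')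
  choose b hb using fun i : Fin (n + 1) => Ideal.exists_forall_sub_mem_ideal hco
    (fun x => if i = 0 then ai x * c x i else c x i)
  let β : Fin (n + 1) → R := fun i => if i = 0 then a * b i else b i
  let w' : Fin (n + 1) → M := fun i => w i.castSucc + β i • w (Fin.last _)
  refine ⟨b 0 • w (Fin.last _), w', ?_, by simp [w', β, mul_smul]⟩
  have hβ : ∀ (x : P) i, β i - c x i ∈ x.1.asIdeal := fun x i => by
    have h := hb i x
    simp only [β]
    split_ifs with hi
    · simp only [if_pos hi] at h
      have : a * b i - c x i = a * (b i - ai x * c x i) + c x i * (a * ai x - 1) := by ring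
      rw [this]
      exact add_mem (Ideal.mul_mem_left _ _ h) (Ideal.mul_mem_left _ _ (hai x))
    · simpa [if_neg hi] using h
  have hW' : Submodule.span R (Set.range w') ≤ W := Submodule.span_le.2 fun _ ⟨i, hi⟩ => hi ▸
    add_mem (Submodule.subset_span ⟨_, rfl⟩) (W.smul_mem _ (Submodule.subset_span ⟨_, rfl⟩))
  have hkeep : ∀ (x : P) (j : ℕ), Ge W j x.1 → Ge (Submodule.span R (Set.range w')) j x.1 := by
    intro x j hj
    refine ge_of_val_le hj fun z hz => ?_
    obtain ⟨z', hz'⟩ := hc x z hz
    refine ⟨∑ i, z' i • w' i, Submodule.sum_mem _ fun i _ => Submodule.smul_mem _ _ (Submodule.subset_span ⟨i, rfl⟩), ?_⟩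
    rw [← hz', map_sum, map_sum]
    refine Finset.sum_congr rfl fun i _ => ?_
    simp only [w', map_smul, map_add]
    congr 2
    funext φ
    simp only [Pi.smul_apply]
    rw [val_apply, Algebra.smul_def, Algebra.smul_def, ← sub_eq_zero, ← sub_mul, ← map_sub,
      Ideal.Quotient.algebraMap_eq, Ideal.Quotient.eq_zero_iff_mem.2 (hβ x i), zero_mul]
  intro k hk Y hY hYa
  have hY2 : (Y : Set (MaximalSpectrum R)) ⊆ A (k + 2) := fun y hy =>
    (hY hy).imp id fun h hge => h (ge_drop w β hge)
  obtain ⟨t, ht, hYt⟩ := isIrreducible_iff_sUnion_isClosed.1 Y.isIrreducible (hSf (k + 2)).toFinset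
    (fun z hz => hSc _ z ((hSf _).mem_toFinset.1 hz)) (by
      rw [Set.Finite.coe_toFinset, ← hSA]; exact hY2)
  rw [Set.Finite.mem_toFinset] at ht
  let T : IrreducibleCloseds (MaximalSpectrum R) := ⟨t, hSi _ t ht, hSc _ t ht⟩
  have hTA : t ⊆ A (k + 2) := hSA (k + 2) ▸ Set.subset_sUnion_of_mem ht
  have hTh := hw (k + 1) (by omega) T hTA (fun h => hYa (hYt.trans h))
  by_cases hYT : Y = T
  · by_cases hne : (t \ A (k + 1)).Nonempty
    · exfalso
      have hxP : hne.choose ∈ P := by
        simp only [P, Set.mem_iUnion, Finset.mem_range]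
        exact ⟨k, hk, t, ht, by rw [dif_pos hne]; rfl⟩
      obtain ⟨h1, h2⟩ := hne.choose_spec
      simp only [A, Set.mem_setOf_eq, not_or, not_not] at h2
      rw [hYT] at hY
      exact ((hY h1).resolve_left h2.1) (hkeep ⟨_, hxP⟩ _ h2.2)
    · rw [Set.not_nonempty_iff_eq_empty, Set.sdiff_eq_empty] at hne
      exact hw k (by omega) Y (hYT ▸ hne) hYa
  · have hlt : Y < T := lt_of_le_of_ne hYt hYT
    have h1 := Order.height_strictMono hlt (lt_of_le_of_lt (Order.height_mono hlt.le)
      (hTh.trans (ENat.natCast_lt_top _)))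
    refine lt_of_lt_of_le h1 ?_
    rw [Nat.cast_add, Nat.cast_one] at hTh
    exact ENat.lt_add_one_iff (ENat.natCast_ne_top k) |>.1 hTh

theorem exists_good_one (a : R) : ∀ {n : ℕ} (w : Fin (n + 1) → M), Good R a w →
    ∃ t : M, Good R a (fun _ : Fin 1 => w 0 + a • t) := by
  intro n
  induction n with
  | zero =>
    intro w hw
    refine ⟨0, ?_⟩
    convert hw using 1
    funext i
    rw [smul_zero, add_zero, Fin.eq_zero i]
  | succ n ih =>
    intro w hw
    obtain ⟨t, w', hw', h0⟩ := good_step a w hw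
    obtain ⟨t', ht'⟩ := ih w' hw'
    refine ⟨t + t', ?_⟩
    rwa [h0, add_assoc, ← smul_add] at ht'

/-- Serre / Eisenbud–Evans: unimodular elements. -/
theorem exists_unimodular_add [Module.Finite R M] (d : ℕ)
    (hdim : topologicalKrullDim (MaximalSpectrum R) ≤ d) (hrk : ∀ x, Ge (⊤ : Submodule R M) (d + 1) x)
    (s : M) (a : R) (hsa : ∀ x : MaximalSpectrum R, a ∈ x.asIdeal → ∃ φ : Module.Dual R M, φ s ∉ x.asIdeal) :
    ∃ (t : M) (φ : Module.Dual R M), φ (s + a • t) = 1 := by
  classical
  obtain ⟨n, g, hg⟩ := Module.Finite.exists_fin (R := R) (M := M)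
  let w : Fin (n + 1) → M := Fin.cons s g
  have hW : Submodule.span R (Set.range w) = ⊤ := by
    rw [eq_top_iff, ← hg]
    exact Submodule.span_mono (by rw [Fin.range_cons]; exact Set.subset_insert _ _)
  have hgood : Good R a w := by
    intro k _ Y hY hYa
    rcases lt_or_ge d k with hdk | hkd
    · have h1 := (Order.height_le_krullDim Y).trans hdim
      exact lt_of_le_of_lt (by exact_mod_cast h1) (by exact_mod_cast hdk)
    · exfalso
      apply hYa
      intro x hx
      refine (hY hx).resolve_right fun h => h ?_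
      rw [hW]
      exact ge_mono (by omega) (hrk x)
  obtain ⟨t, ht⟩ := exists_good_one a w hgood
  let s' := s + a • t
  let O : Ideal R := LinearMap.range (Module.Dual.eval R M s')
  have hO : O = ⊤ := by
    by_contra hne
    obtain ⟨m, hm, hle⟩ := Ideal.exists_le_maximal O hne
    let x : MaximalSpectrum R := ⟨m, hm⟩
    by_cases hax : a ∈ m
    · obtain ⟨φ, hφ⟩ := hsa x hax
      have h := sub_mem (hle ⟨φ, rfl⟩) (Ideal.mul_mem_right (φ t) _ hax)
      rw [Module.Dual.eval_apply, map_add, map_smul, smul_eq_mul, add_sub_cancel_right] at h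
      exact hφ h
    · refine not_lt_bot (α := ℕ∞) (ht 0 Nat.one_pos ⟨{x}, isIrreducible_singleton, isClosed_singleton⟩ ?_ fun h => hax (h rfl))
      rintro y rfl
      refine Or.inr fun ⟨φ, u, hu, hd⟩ => hd ?_
      rw [Matrix.det_fin_one, Matrix.of_apply]
      obtain ⟨r, hr⟩ := Submodule.mem_span_singleton.1 (by
        simpa [Set.range_const, s', w] using hu 0 : u 0 ∈ Submodule.span R {s'})
      rw [← hr, map_smul, smul_eq_mul]
      exact Ideal.mul_mem_left _ _ (hle ⟨φ 0, rfl⟩)
  obtain ⟨φ, hφ⟩ := (hO ▸ Submodule.mem_top : (1 : R) ∈ O)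
  exact ⟨t, φ, hφ⟩

end Groth.Agent.SerreSplitLib
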